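import Groth.Agent.InstabFanLib.Topo
import Groth.Prelude.Def_W4c6instabfans3FanCvx
import Mathlib.Topology.Connected.LocallyConnected
import Mathlib.Topology.UnitInterval

/-!
Rational points and segments in convex subsets of realizations of formal fans.
-/

set_option autoImplicit false
set_option linter.style.haveILetI false
set_option backward.isDefEq.respectTransparency.types false

open CategoryTheory Opposite Instab Filter Topology

universe u

namespace Groth.Agent.InstabFanLib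

variable {F : Fan.{u}} {U : Set (Fan.P F)}

/-- Rational points are dense in a realizable set. -/
theorem exists_rational_mem (hU : Fan.IsRealizable U) {W : Set U} (hW : IsOpen W) (y : U) (hy : y ∈ W) :
    ∃ z : U, z ∈ W ∧ (z : Fan.P F).IsRational := by
  obtain ⟨S, rfl⟩ := hU
  obtain ⟨y, hyU⟩ := y
  obtain ⟨a, rfl⟩ := hyU
  obtain ⟨n, s, v, rfl⟩ := exists_mk a
  obtain ⟨W, hWo, rfl⟩ := isOpen_induced_iff.mp hW
  by_contra! hcon
  have hcl : IsClosed (Fan.P.mk (S.ι.app _ s) ⁻¹' Wᶜ) := hWo.isClosed_compl.preimage (continuous_mk _)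
  refine mem_of_lattice hcl (fun w hw c hc => by rw [Set.mem_preimage, mk_oscale]; exact hw) (fun w q hq hwW => ?_) v hy
  exact hcon ⟨_, Fan.P.mk s w, rfl⟩ hwW (isRational_mk _ w q hq)

/-- The point with parameter `t` of the standard segment. -/
noncomputable def segPt (t : unitInterval) : Fan.Orth Fan.two :=
  ⟨(1 - (t : ℝ)) • (Fan.Orth.basis Fan.two 0).1 + (t : ℝ) • (Fan.Orth.basis Fan.two 1).1,
    fun i => add_nonneg (mul_nonneg (sub_nonneg.mpr t.2.2) ((Fan.Orth.basis Fan.two 0).2.1 i))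
      (mul_nonneg t.2.1 ((Fan.Orth.basis Fan.two 1).2.1 i)), fun h => by
    have h0 : (1 - (t : ℝ)) * (Fan.Orth.basis Fan.two 0).1 0 + (t : ℝ) * (Fan.Orth.basis Fan.two 1).1 0 = 0 := congrFun h 0
    have h1 : (1 - (t : ℝ)) * (Fan.Orth.basis Fan.two 0).1 1 + (t : ℝ) * (Fan.Orth.basis Fan.two 1).1 1 = 0 := congrFun h 1
    simp [Fan.Orth.basis] at h0 h1
    subst h1; simp at h0⟩

theorem continuous_segPt : Continuous segPt :=
  Continuous.subtype_mk ((((continuous_const.sub continuous_subtype_val)).smul continuous_const).add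
    (continuous_subtype_val.smul continuous_const)) _

theorem segPt_zero : segPt 0 = Fan.Orth.basis Fan.two 0 := Subtype.ext (funext fun i => by
  show (1 - ((0 : unitInterval) : ℝ)) * _ + ((0 : unitInterval) : ℝ) * _ = _
  simp)

theorem segPt_one : segPt 1 = Fan.Orth.basis Fan.two 1 := Subtype.ext (funext fun i => by
  show (1 - ((1 : unitInterval) : ℝ)) * _ + ((1 : unitInterval) : ℝ) * _ = _
  simp)

/-- The segment joining two distinct rational points of a convex set. -/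
theorem exists_segment {Γ : Type*} [LinearOrder Γ] (hU : Fan.IsConvex U) (x y : U) (hx : (x : Fan.P F).IsRational)
    (hy : (y : Fan.P F).IsRational) (hne : x ≠ y) :
    ∃ γ : unitInterval → U, Continuous γ ∧ γ 0 = x ∧ γ 1 = y ∧
      ∀ t : unitInterval, (0 : ℝ) < t → (t : ℝ) < 1 →
        (∀ Φ : U → Γ, Fan.IsQuasiConcaveOn U Φ →
          min (Φ x) (Φ y) ≤ Φ (γ t) ∧ (Φ (γ t) = min (Φ x) (Φ y) → Φ x = Φ y)) ∧
        (∀ Φ : U → Γ, Fan.IsStrictQuasiConcaveOn U Φ → min (Φ x) (Φ y) < Φ (γ t)) := by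
  obtain ⟨τ, hτ, h0, h1⟩ := hU.2.2 x.1 y.1 x.2 y.2 hx hy (fun h => hne (Subtype.ext h))
  have hmem : ∀ v, Fan.P.mk τ v ∈ U := fun v => hτ ⟨v, rfl⟩
  refine ⟨fun t => ⟨Fan.P.mk τ (segPt t), hmem _⟩, ((continuous_mk τ).comp continuous_segPt).subtype_mk _,
    Subtype.ext (by simp only [segPt_zero, h0]), Subtype.ext (by simp only [segPt_one, h1]), fun t ht ht' => ?_⟩
  have ex : x = ⟨_, hmem (Fan.Orth.basis Fan.two 0)⟩ := Subtype.ext h0.symm
  have ey : y = ⟨_, hmem (Fan.Orth.basis Fan.two 1)⟩ := Subtype.ext h1.symm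
  have hnp : ¬ ∃ c : ℝ, (Fan.Orth.basis Fan.two 1).1 = c • (Fan.Orth.basis Fan.two 0).1 := fun ⟨c, hc⟩ => by
    have h : (Fan.Orth.basis Fan.two 1).1 1 = c * (Fan.Orth.basis Fan.two 0).1 1 := congrFun hc 1
    simp [Fan.Orth.basis] at h
  refine ⟨fun Φ hΦ => ?_, fun Φ hΦ => ?_⟩ <;> rw [ex, ey]
  · exact hΦ Fan.two τ _ (segPt t) _ _ _ _ hnp ⟨_, _, sub_pos.mpr ht', ht, rfl⟩
  · exact hΦ Fan.two τ _ (segPt t) _ _ _ _ hnp ⟨_, _, sub_pos.mpr ht', ht, rfl⟩

/-- Parameters near the beginning of a segment. -/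
theorem exists_small {p : unitInterval → Prop} (h : ∀ᶠ t in 𝓝 (0 : unitInterval), p t) :
    ∃ t : unitInterval, (0 : ℝ) < t ∧ (t : ℝ) < 1 ∧ p t := by
  obtain ⟨ε, hε, hball⟩ := Metric.eventually_nhds_iff.mp h
  refine ⟨⟨min (ε / 2) (1 / 2), by positivity, (min_le_right _ _).trans (by norm_num)⟩, by positivity,
    (min_le_right _ _).trans_lt (by norm_num), hball ?_⟩
  rw [Subtype.dist_eq, Real.dist_eq]
  simp only [Set.Icc.coe_zero, sub_zero]
  rw [abs_of_pos (by positivity)]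
  exact (min_le_left _ _).trans_lt (half_lt_self hε)

end Groth.Agent.InstabFanLib
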