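import Groth.Agent.InstabFanLib.Rat
import Groth.Prelude.Def_W4c6instabfans3Fan

/-!
When two points of the realization of a formal fan agree.
-/

set_option autoImplicit false
set_option linter.style.haveILetI false

open CategoryTheory Opposite Instab Finset

universe u

namespace Groth.Agent.InstabFanLib

variable {k m n : ICone}

/-- The real map of a cone morphism as a linear map. -/
noncomputable abbrev rl (φ : k ⟶ n) : (Fin k.dim → ℝ) →ₗ[ℝ] (Fin n.dim → ℝ) := rext φ.toLin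

theorem realMap_eq (φ : k ⟶ n) (v : Fin k.dim → ℝ) : φ.realMap v = rl φ v := rfl

theorem rl_comp (φ : k ⟶ m) (ψ : m ⟶ n) (v : Fin k.dim → ℝ) : rl (φ ≫ ψ) v = rl ψ (rl φ v) :=
  rext_comp φ.toLin ψ.toLin v

theorem rl_id (v : Fin n.dim → ℝ) : rl (𝟙 n) v = v := rext_id v

theorem rl_injective (φ : k ⟶ n) : Function.Injective (rl φ) := rext_injective φ.injective

theorem rl_nonneg (φ : k ⟶ n) {v : Fin k.dim → ℝ} (hv : ∀ i, 0 ≤ v i) (j : Fin n.dim) : 0 ≤ rl φ v j := by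
  rw [rext_apply]
  refine sum_nonneg fun i _ => mul_nonneg (Int.cast_nonneg (φ.nonneg _ (fun l => ?_) j)) (hv i)
  by_cases h : l = i <;> simp [h]

/-- The image of a point of the orthant under a cone morphism. -/
noncomputable def omap (φ : k ⟶ n) (v : Fan.Orth k) : Fan.Orth n :=
  ⟨rl φ v.1, rl_nonneg φ v.2.1, fun h => v.2.2 (rl_injective φ (h.trans (rl φ).map_zero.symm))⟩

theorem omap_val (φ : k ⟶ n) (v : Fan.Orth k) : (omap φ v).1 = rl φ v.1 := rfl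

theorem continuous_omap (φ : k ⟶ n) : Continuous (omap φ) := by
  refine Continuous.subtype_mk ?_ _
  exact (rl φ).continuous_of_finiteDimensional.comp continuous_subtype_val

theorem realMap_eq_omap (φ : k ⟶ n) (v : Fan.Orth k) : φ.realMap v.1 = (omap φ v).1 := rfl

variable {F G : Fan.{u}}

theorem mk_map (φ : k ⟶ n) (ξ : F.obj (op n)) (v : Fan.Orth k) :
    Fan.P.mk (F.map φ.op ξ) v = Fan.P.mk ξ (omap φ v) :=
  Quot.sound (Fan.Rel.glue φ ξ v (omap φ v) 1 one_pos (one_smul ℝ _).symm)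

theorem mk_smul (ξ : F.obj (op n)) (v w : Fan.Orth n) (c : ℝ) (hc : 0 < c) (h : w.1 = c • v.1) :
    Fan.P.mk ξ w = Fan.P.mk ξ v := by
  have h1 : Fan.P.mk (F.map (𝟙 n).op ξ) v = Fan.P.mk ξ w :=
    Quot.sound (Fan.Rel.glue (𝟙 n) ξ v w c hc (by rw [h, realMap_eq, rl_id]))
  rw [← h1, op_id, F.map_id]
  rfl

theorem mk_map_smul (φ : k ⟶ n) (ξ : F.obj (op n)) (v : Fan.Orth k) (w : Fan.Orth n) (c : ℝ) (hc : 0 < c)
    (h : w.1 = c • rl φ v.1) : Fan.P.mk (F.map φ.op ξ) v = Fan.P.mk ξ w :=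
  Quot.sound (Fan.Rel.glue φ ξ v w c hc h)

theorem map_mk (f : F ⟶ G) (ξ : F.obj (op n)) (v : Fan.Orth n) :
    Fan.P.map f (Fan.P.mk ξ v) = Fan.P.mk (f.app _ ξ) v := rfl

theorem exists_mk (x : Fan.P F) : ∃ (n : ICone) (ξ : F.obj (op n)) (v : Fan.Orth n), Fan.P.mk ξ v = x := by
  obtain ⟨⟨⟨n, ξ⟩, v⟩, rfl⟩ := Quot.exists_rep x
  exact ⟨n, ξ, v, rfl⟩

/-- A cone from linearly independent nonnegative integral vectors. -/
noncomputable def coneOf {r : ℕ+} {n : ICone} (g : Fin r → Fin n.dim → ℤ) (hg : LinearIndependent ℤ g)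
    (hnn : ∀ j i, 0 ≤ g j i) : (⟨r⟩ : ICone) ⟶ n where
  toLin := Fintype.linearCombination ℤ g
  injective := LinearIndependent.fintypeLinearCombination_injective hg
  nonneg v hv i := by
    rw [Fintype.linearCombination_apply, Finset.sum_apply]
    exact sum_nonneg fun j _ => mul_nonneg (hv j) (hnn j i)

theorem rl_coneOf {r : ℕ+} (g : Fin r → Fin n.dim → ℤ) (hg : LinearIndependent ℤ g) (hnn : ∀ j i, 0 ≤ g j i)
    (c : Fin r → ℝ) : rl (coneOf g hg hnn) c = ∑ j, c j • icast (g j) := by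
  funext i
  rw [rext_apply, Finset.sum_apply]
  refine sum_congr rfl fun j _ => ?_
  show (Fintype.linearCombination ℤ g (Pi.single j 1) i : ℝ) * c j = c j * (g j i : ℝ)
  rw [Fintype.linearCombination_apply_single, one_smul, mul_comm]

/-- Two lattice simplices meet in finitely many rational simplices. -/
theorem exists_meet_lin {N : ℕ} (A : (Fin k.dim → ℤ) →ₗ[ℤ] (Fin N → ℤ)) (hA : Function.Injective A)
    (A' : (Fin m.dim → ℤ) →ₗ[ℤ] (Fin N → ℤ)) (hA' : Function.Injective A') :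
    ∃ s : Set (Σ l : ICone, (l ⟶ k) × (l ⟶ m)), s.Finite ∧ (∀ e ∈ s, A.comp e.2.1.toLin = A'.comp e.2.2.toLin) ∧
      ∀ (a : Fan.Orth k) (b : Fin m.dim → ℝ), (∀ i, 0 ≤ b i) → rext A a.1 = rext A' b →
        ∃ e ∈ s, ∃ y : Fan.Orth e.1, a.1 = rl e.2.1 y.1 ∧ b = rl e.2.2 y.1 := by
  classical
  let L : (Fin k.dim ⊕ Fin m.dim → ℤ) →ₗ[ℤ] (Fin N → ℤ) :=
    A.comp (LinearMap.funLeft ℤ ℤ Sum.inl) - A'.comp (LinearMap.funLeft ℤ ℤ Sum.inr)
  obtain ⟨Γ, hΓ, hgen⟩ := exists_generators L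
  let p₁ : (Fin k.dim ⊕ Fin m.dim → ℤ) →ₗ[ℤ] (Fin k.dim → ℤ) := LinearMap.funLeft ℤ ℤ Sum.inl
  let p₂ : (Fin k.dim ⊕ Fin m.dim → ℤ) →ₗ[ℤ] (Fin m.dim → ℤ) := LinearMap.funLeft ℤ ℤ Sum.inr
  have hL : ∀ g, L g = 0 ↔ A (p₁ g) = A' (p₂ g) := fun g => sub_eq_zero
  -- projections of independent solutions are independent
  have hind : ∀ (r : ℕ) (g : Fin r → Fin k.dim ⊕ Fin m.dim → ℤ), (∀ j, g j ∈ Γ) → LinearIndependent ℤ g →
      LinearIndependent ℤ (fun j => p₁ (g j)) ∧ LinearIndependent ℤ (fun j => p₂ (g j)) := by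
    intro r g hg hli
    rw [Fintype.linearIndependent_iff] at hli
    have h : ∀ c : Fin r → ℤ, A (∑ j, c j • p₁ (g j)) = A' (∑ j, c j • p₂ (g j)) := fun c => by
      simp only [map_sum, map_smul, (hL _).mp (hΓ _ (hg _)).2]
    constructor <;> rw [Fintype.linearIndependent_iff] <;> intro c hc
    · have h2 : ∑ j, c j • p₂ (g j) = 0 := hA' (by rw [← h, hc, map_zero, map_zero])
      refine hli c (funext fun i => ?_)
      rcases i with i | i
      · simpa [p₁, LinearMap.funLeft, Finset.sum_apply] using congrFun hc i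
      · simpa [p₂, LinearMap.funLeft, Finset.sum_apply] using congrFun h2 i
    · have h2 : ∑ j, c j • p₁ (g j) = 0 := hA (by rw [h, hc, map_zero, map_zero])
      refine hli c (funext fun i => ?_)
      rcases i with i | i
      · simpa [p₁, LinearMap.funLeft, Finset.sum_apply] using congrFun h2 i
      · simpa [p₂, LinearMap.funLeft, Finset.sum_apply] using congrFun hc i
  let T : Set (Σ r : Fin (Γ.card + 1), Fin r → Γ) :=
    {g | 0 < (g.1 : ℕ) ∧ LinearIndependent ℤ (fun j => (g.2 j : Fin k.dim ⊕ Fin m.dim → ℤ))}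
  let E : T → Σ l : ICone, (l ⟶ k) × (l ⟶ m) := fun g =>
    ⟨⟨⟨g.1.1, g.2.1⟩⟩,
      coneOf (fun j => p₁ (g.1.2 j)) (hind _ _ (fun j => (g.1.2 j).2) g.2.2).1 (fun j i => (hΓ _ (g.1.2 j).2).1 _),
      coneOf (fun j => p₂ (g.1.2 j)) (hind _ _ (fun j => (g.1.2 j).2) g.2.2).2 (fun j i => (hΓ _ (g.1.2 j).2).1 _)⟩
  refine ⟨Set.range E, Set.finite_range E, ?_, fun a b hb hab => ?_⟩
  · rintro _ ⟨⟨⟨r, g⟩, hr, hg⟩, rfl⟩
    refine LinearMap.ext fun v => ?_
    show A (Fintype.linearCombination ℤ _ v) = A' (Fintype.linearCombination ℤ _ v)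
    simp only [Fintype.linearCombination_apply, map_sum, map_smul]
    exact sum_congr rfl fun j _ => congrArg (v j • ·) ((hL _).mp (hΓ _ (g j).2).2)
  · let x : Fin k.dim ⊕ Fin m.dim → ℝ := Sum.elim a.1 b
    have hx : rext L x = 0 := by
      funext j
      have := congrFun hab j
      simp only [rext_apply] at this ⊢
      simp only [Fintype.sum_sum_type, x, Sum.elim_inl, Sum.elim_inr, L, LinearMap.sub_apply, LinearMap.comp_apply,
        Pi.sub_apply, Pi.zero_apply]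
      have h1 : ∀ i, LinearMap.funLeft ℤ ℤ Sum.inl (Pi.single (Sum.inl i : Fin k.dim ⊕ Fin m.dim) (1 : ℤ)) =
          Pi.single i 1 := fun i => funext fun i' => by simp [LinearMap.funLeft, Pi.single_apply]
      have h2 : ∀ i, LinearMap.funLeft ℤ ℤ Sum.inr (Pi.single (Sum.inl i : Fin k.dim ⊕ Fin m.dim) (1 : ℤ)) =
          (0 : Fin m.dim → ℤ) := fun i => funext fun i' => by simp [LinearMap.funLeft]
      have h3 : ∀ i, LinearMap.funLeft ℤ ℤ Sum.inl (Pi.single (Sum.inr i : Fin k.dim ⊕ Fin m.dim) (1 : ℤ)) =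
          (0 : Fin k.dim → ℤ) := fun i => funext fun i' => by simp [LinearMap.funLeft]
      have h4 : ∀ i, LinearMap.funLeft ℤ ℤ Sum.inr (Pi.single (Sum.inr i : Fin k.dim ⊕ Fin m.dim) (1 : ℤ)) =
          Pi.single i 1 := fun i => funext fun i' => by simp [LinearMap.funLeft, Pi.single_apply]
      simp only [h1, h2, h3, h4, map_zero, Pi.zero_apply, sub_zero, zero_sub, Int.cast_neg, neg_mul,
        sum_neg_distrib, this]
      ring
    obtain ⟨r, g, c, hli, hgΓ, hc, hsum⟩ := hgen x (fun i => by rcases i with i | i; exacts [a.2.1 i, hb i]) hx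
    have hr : 0 < r := by
      rcases Nat.eq_zero_or_pos r with rfl | h
      · exfalso
        refine a.2.2 (funext fun i => ?_)
        simpa [x] using congrFun hsum (Sum.inl i)
      · exact h
    have hrle : r ≤ Γ.card := by
      have hinj : Function.Injective g := hli.injective
      simpa [Fintype.card_coe] using Fintype.card_le_of_injective (fun j => (⟨g j, hgΓ j⟩ : Γ))
        fun i j h => hinj (congrArg Subtype.val h)
    let t : T := ⟨⟨⟨r, Nat.lt_succ_of_le hrle⟩, fun j => ⟨g j, hgΓ j⟩⟩, hr, hli⟩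
    let y : Fan.Orth (E t).1 := ⟨c, fun j => (hc j).le, fun h => (hc ⟨0, hr⟩).ne' (congrFun h ⟨0, hr⟩)⟩
    refine ⟨E t, ⟨t, rfl⟩, y, ?_, ?_⟩
    · refine Eq.trans ?_ (rl_coneOf (r := ⟨r, hr⟩) (fun j => p₁ (g j)) (hind r g hgΓ hli).1 (fun j i => (hΓ _ (hgΓ j)).1 _) c).symm
      funext i
      have := congrFun hsum (Sum.inl i)
      simp [x, Finset.sum_apply, icast, p₁, LinearMap.funLeft, t] at this ⊢
      exact this
    · refine Eq.trans ?_ (rl_coneOf (r := ⟨r, hr⟩) (fun j => p₂ (g j)) (hind r g hgΓ hli).2 (fun j i => (hΓ _ (hgΓ j)).1 _) c).symm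
      funext i
      have := congrFun hsum (Sum.inr i)
      simp [x, Finset.sum_apply, icast, p₂, LinearMap.funLeft, t] at this ⊢
      exact this

/-- Two simplices in a simplex meet in finitely many rational simplices. -/
theorem exists_meet (φ : k ⟶ n) (φ' : m ⟶ n) :
    ∃ s : Set (Σ l : ICone, (l ⟶ k) × (l ⟶ m)), s.Finite ∧ (∀ e ∈ s, e.2.1 ≫ φ = e.2.2 ≫ φ') ∧
      ∀ (a : Fan.Orth k) (b : Fin m.dim → ℝ), (∀ i, 0 ≤ b i) → rl φ a.1 = rl φ' b →
        ∃ e ∈ s, ∃ y : Fan.Orth e.1, a.1 = rl e.2.1 y.1 ∧ b = rl e.2.2 y.1 := by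
  obtain ⟨s, h1, h2, h3⟩ := exists_meet_lin φ.toLin φ.injective φ'.toLin φ'.injective
  exact ⟨s, h1, fun e he => ICone.Hom.ext (h2 e he), h3⟩

/-- The relation: a common refinement. -/
def Eqv (F : Fan.{u}) (p q : Fan.Pt F) : Prop :=
  ∃ (l : ICone) (φ : l ⟶ p.1.1) (φ' : l ⟶ q.1.1) (y : Fan.Orth l) (c c' : ℝ),
    F.map φ.op p.1.2 = F.map φ'.op q.1.2 ∧ 0 < c ∧ 0 < c' ∧ p.2.1 = c • rl φ y.1 ∧ q.2.1 = c' • rl φ' y.1

theorem eqv_equivalence (F : Fan.{u}) : Equivalence (Eqv F) where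
  refl p := ⟨p.1.1, 𝟙 _, 𝟙 _, p.2, 1, 1, rfl, one_pos, one_pos, by rw [rl_id, one_smul], by rw [rl_id, one_smul]⟩
  symm := fun ⟨l, φ, φ', y, c, c', h1, h2, h3, h4, h5⟩ => ⟨l, φ', φ, y, c', c, h1.symm, h3, h2, h5, h4⟩
  trans := by
    rintro p q r ⟨l, φ, φ', y, c, c', h1, hc, hc', hp, hq⟩ ⟨l', ψ, ψ', y', d, d', h1', hd, hd', hq', hr⟩
    obtain ⟨s, -, hs, hmeet⟩ := exists_meet φ' ψ
    obtain ⟨e, he, z, hy, hy'⟩ := hmeet y ((d / c') • y'.1)
      (fun i => mul_nonneg (div_pos hd hc').le (y'.2.1 i)) (by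
        rw [map_smul]
        apply smul_right_injective _ hc'.ne'
        show c' • rl φ' y.1 = c' • ((d / c') • rl ψ y'.1)
        rw [← hq, smul_smul, mul_div_cancel₀ _ hc'.ne', hq'])
    refine ⟨e.1, e.2.1 ≫ φ, e.2.2 ≫ ψ', z, c, d' / (d / c'), ?_, hc, div_pos hd' (div_pos hd hc'), ?_, ?_⟩
    · have hcongr := hs e he
      rw [op_comp, op_comp, F.map_comp, F.map_comp]
      show F.map _ (F.map φ.op _) = F.map _ (F.map ψ'.op _)
      rw [h1, ← h1']
      show (F.map φ'.op ≫ F.map e.2.1.op) _ = (F.map ψ.op ≫ F.map e.2.2.op) _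
      rw [← F.map_comp, ← F.map_comp, ← op_comp, ← op_comp, hcongr]
    · rw [hp, rl_comp, ← hy]
    · rw [hr, rl_comp, ← hy', map_smul, smul_smul, div_mul_cancel₀ _ (div_pos hd hc').ne']

theorem mk_eq_mk_iff {n₁ n₂ : ICone} (σ₁ : F.obj (op n₁)) (σ₂ : F.obj (op n₂)) (v₁ : Fan.Orth n₁) (v₂ : Fan.Orth n₂) :
    Fan.P.mk σ₁ v₁ = Fan.P.mk σ₂ v₂ ↔
      ∃ (l : ICone) (φ₁ : l ⟶ n₁) (φ₂ : l ⟶ n₂) (y : Fan.Orth l) (c₁ c₂ : ℝ),
        F.map φ₁.op σ₁ = F.map φ₂.op σ₂ ∧ 0 < c₁ ∧ 0 < c₂ ∧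
          v₁.1 = c₁ • rl φ₁ y.1 ∧ v₂.1 = c₂ • rl φ₂ y.1 := by
  constructor
  · intro h
    have key : ∀ p q : Fan.Pt F, Relation.EqvGen (Fan.Rel F) p q → Eqv F p q := by
      intro p q hr
      induction hr with
      | rel p q hr =>
        obtain ⟨φ, ξ, v, w, c, hc, hw⟩ := hr
        exact ⟨_, 𝟙 _, φ, v, 1, c, by rw [op_id, F.map_id]; rfl, one_pos, hc, by rw [rl_id, one_smul], hw⟩
      | refl p => exact (eqv_equivalence F).refl p
      | symm p q _ ih => exact (eqv_equivalence F).symm ih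
      | trans p q r _ _ ih ih' => exact (eqv_equivalence F).trans ih ih'
    exact key _ _ (Quot.eqvGen_exact h)
  · rintro ⟨l, φ₁, φ₂, y, c₁, c₂, h, hc₁, hc₂, h₁, h₂⟩
    rw [← mk_map_smul φ₁ σ₁ y v₁ c₁ hc₁ h₁, h, mk_map_smul φ₂ σ₂ y v₂ c₂ hc₂ h₂]

end Groth.Agent.InstabFanLib
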