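import Groth.Agent.InstabFanLib.Glue

/-!
Cones of fibre products of formal fans, boundedness.
-/

set_option autoImplicit false
set_option linter.style.haveILetI false
set_option backward.isDefEq.respectTransparency.types false

open CategoryTheory CategoryTheory.Limits Opposite Instab

universe u

namespace Groth.Agent.InstabFanLib

variable {F F' G : Fan.{u}} {k n : ICone}

theorem app_map (f : F ⟶ G) (φ : k ⟶ n) (σ : F.obj (op n)) :
    f.app _ (F.map φ.op σ) = G.map φ.op (f.app _ σ) := NatTrans.naturality_apply f φ.op σ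

theorem coneMap_app (σ : F.obj (op n)) (φ : k ⟶ n) :
    (Fan.coneMap σ).app (op k) (ULift.up φ) = F.map φ.op σ :=
  rfl

theorem coneMap_comp (f : F ⟶ G) (σ : F.obj (op n)) : Fan.coneMap σ ≫ f = Fan.coneMap (f.app _ σ) := by
  refine NatTrans.ext (funext fun l => ConcreteCategory.hom_ext _ _ fun φ => ?_)
  obtain ⟨φ⟩ := φ
  show f.app l ((Fan.coneMap σ).app l (ULift.up φ)) = _
  rw [show (Fan.coneMap σ).app l (ULift.up φ) = F.map φ.op σ from coneMap_app σ φ]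
  exact (app_map f φ σ).trans (coneMap_app (f.app _ σ) φ).symm

/-- A cone of a fibre product. -/
theorem exists_pullback_cone (f : F ⟶ G) (g : F' ⟶ G) (a : F.obj (op n)) (b : F'.obj (op n))
    (h : f.app _ a = g.app _ b) :
    ∃ e : (pullback f g).obj (op n), (pullback.fst f g).app _ e = a ∧ (pullback.snd f g).app _ e = b := by
  let p : uliftYoneda.{u}.obj n ⟶ pullback f g :=
    pullback.lift (Fan.coneMap a) (Fan.coneMap b) (by rw [coneMap_comp, coneMap_comp, h])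
  have hid : ∀ {H : Fan.{u}} (c : H.obj (op n)), (Fan.coneMap c).app (op n) (ULift.up (𝟙 n)) = c := fun {H} c => by
    rw [coneMap_app, op_id, H.map_id]; rfl
  refine ⟨p.app _ (ULift.up (𝟙 n)), ?_, ?_⟩
  · show (p ≫ pullback.fst f g).app _ (ULift.up (𝟙 n)) = a
    rw [pullback.lift_fst]; exact hid a
  · show (p ≫ pullback.snd f g).app _ (ULift.up (𝟙 n)) = b
    rw [pullback.lift_snd]; exact hid b

theorem pullback_cone_eq (f : F ⟶ G) (g : F' ⟶ G) (e : (pullback f g).obj (op n)) :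
    f.app _ ((pullback.fst f g).app _ e) = g.app _ ((pullback.snd f g).app _ e) :=
  congrArg (fun z : pullback f g ⟶ G => z.app _ e) pullback.condition

theorem map_comp_apply {H : Fan.{u}} (f : F ⟶ G) (g : G ⟶ H) (x : Fan.P F) :
    Fan.P.map (f ≫ g) x = Fan.P.map g (Fan.P.map f x) := by
  obtain ⟨n, ξ, v, rfl⟩ := exists_mk x
  rfl

theorem map_map {l : ICone} (φ : l ⟶ k) (ψ : k ⟶ n) (σ : F.obj (op n)) :
    F.map φ.op (F.map ψ.op σ) = F.map (φ ≫ ψ).op σ := by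
  rw [op_comp, F.map_comp]; rfl

theorem exists_pullback_point (f : F ⟶ G) (g : F' ⟶ G) (x : Fan.P F) (x' : Fan.P F')
    (h : Fan.P.map f x = Fan.P.map g x') :
    ∃ y : Fan.P (pullback f g), Fan.P.map (pullback.fst f g) y = x ∧ Fan.P.map (pullback.snd f g) y = x' := by
  obtain ⟨n, σ, v, rfl⟩ := exists_mk x
  obtain ⟨n', σ', v', rfl⟩ := exists_mk x'
  rw [map_mk, map_mk] at h
  obtain ⟨l, φ, φ', y, c, c', hσ, hc, hc', hv, hv'⟩ := (mk_eq_mk_iff _ _ _ _).mp h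
  rw [← app_map, ← app_map] at hσ
  obtain ⟨e, h1, h2⟩ := exists_pullback_cone f g _ _ hσ
  refine ⟨Fan.P.mk e y, ?_, ?_⟩
  · rw [map_mk, h1]; exact mk_map_smul φ σ y v c hc hv
  · rw [map_mk, h2]; exact mk_map_smul φ' σ' y v' c' hc' hv'

theorem map_injective (f : F ⟶ G) (hf : ∀ n : ICone, Function.Injective (f.app (op n))) :
    Function.Injective (Fan.P.map f) := by
  intro x x' h
  obtain ⟨n, σ, v, rfl⟩ := exists_mk x
  obtain ⟨n', σ', v', rfl⟩ := exists_mk x'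
  rw [map_mk, map_mk] at h
  obtain ⟨l, φ, φ', y, c, c', hσ, hc, hc', hv, hv'⟩ := (mk_eq_mk_iff _ _ _ _).mp h
  rw [← app_map, ← app_map] at hσ
  exact (mk_eq_mk_iff _ _ _ _).mpr ⟨l, φ, φ', y, c, c', hf l hσ, hc, hc', hv, hv'⟩

theorem map_surjective (f : F ⟶ G) (hf : ∀ n : ICone, Function.Surjective (f.app (op n))) :
    Function.Surjective (Fan.P.map f) := by
  intro x
  obtain ⟨n, σ, v, rfl⟩ := exists_mk x
  obtain ⟨a, rfl⟩ := hf n σ
  exact ⟨Fan.P.mk a v, rfl⟩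

/-- Equal points of a representable fan have proportional vectors. -/
theorem ray_eq {l : ICone} (φ : k ⟶ n) (φ' : l ⟶ n) (y : Fan.Orth k) (y' : Fan.Orth l)
    (h : Fan.P.mk (F := uliftYoneda.{u}.obj n) (n := k) (ULift.up φ) y =
      Fan.P.mk (F := uliftYoneda.{u}.obj n) (n := l) (ULift.up φ') y') :
    ∃ c : ℝ, 0 < c ∧ rl φ y.1 = c • rl φ' y'.1 := by
  obtain ⟨j, ψ, ψ', z, a, a', he, ha, ha', hy, hy'⟩ := (mk_eq_mk_iff _ _ _ _).mp h
  have he' : ψ ≫ φ = ψ' ≫ φ' := congrArg ULift.down he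
  refine ⟨a / a', div_pos ha ha', ?_⟩
  rw [hy, hy', map_smul, map_smul, smul_smul, div_mul_cancel₀ _ ha'.ne', ← rl_comp, ← rl_comp, he']

/-- Finitely many cones cover the preimage of a cone along a bounded map. -/
theorem exists_cover {f : F ⟶ G} {ξ : G.obj (op n)} (hb : Fan.IsBounded (pullback f (Fan.coneMap ξ))) :
    ∃ s : Finset (Σ l : ICone, F.obj (op l) × (l ⟶ n)), (∀ e ∈ s, f.app _ e.2.1 = G.map e.2.2.op ξ) ∧
      ∀ (k : ICone) (a : F.obj (op k)) (ψ : k ⟶ n) (y : Fan.Orth k), f.app _ a = G.map ψ.op ξ →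
        ∃ e ∈ s, ∃ (z : Fan.Orth e.1) (c : ℝ), 0 < c ∧ rl ψ y.1 = c • rl e.2.2 z.1 ∧
          Fan.P.mk a y = Fan.P.mk e.2.1 z := by
  classical
  obtain ⟨t, ht⟩ := hb
  let P := pullback f (Fan.coneMap ξ)
  let E : (Σ l : ICone, P.obj (op l)) → Σ l : ICone, F.obj (op l) × (l ⟶ n) := fun e =>
    ⟨e.1, (pullback.fst f (Fan.coneMap ξ)).app _ e.2, ((pullback.snd f (Fan.coneMap ξ)).app _ e.2).down⟩
  refine ⟨t.image E, fun e he => ?_, fun k a ψ y h => ?_⟩
  · obtain ⟨e, -, rfl⟩ := Finset.mem_image.mp he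
    exact (pullback_cone_eq f (Fan.coneMap ξ) e.2).trans (coneMap_app ξ _)
  · obtain ⟨p, h1, h2⟩ := exists_pullback_cone f (Fan.coneMap ξ) a (ULift.up ψ) (h.trans (coneMap_app ξ ψ).symm)
    obtain ⟨e, he, z, hz⟩ := ht (Fan.P.mk p y)
    have hf := congrArg (Fan.P.map (pullback.fst f (Fan.coneMap ξ))) hz
    have hs := congrArg (Fan.P.map (pullback.snd f (Fan.coneMap ξ))) hz
    rw [map_mk, map_mk, h1] at hf
    rw [map_mk, map_mk, h2] at hs
    obtain ⟨c, hc, hcy⟩ := ray_eq ψ ((pullback.snd f (Fan.coneMap ξ)).app _ e.2).down y z hs.symm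
    exact ⟨E e, Finset.mem_image_of_mem E he, z, c, hc, hcy, hf.symm⟩

/-- A point over a cone comes from a cone of the fibre product. -/
theorem exists_of_map_eq (f : F ⟶ G) {ξ : G.obj (op n)} (x : Fan.P F) (v : Fan.Orth n)
    (h : Fan.P.map f x = Fan.P.mk ξ v) :
    ∃ (k : ICone) (a : F.obj (op k)) (ψ : k ⟶ n) (y : Fan.Orth k) (c : ℝ),
      f.app _ a = G.map ψ.op ξ ∧ 0 < c ∧ v.1 = c • rl ψ y.1 ∧ Fan.P.mk a y = x := by
  obtain ⟨m, σ, w, rfl⟩ := exists_mk x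
  rw [map_mk] at h
  obtain ⟨l, φ, φ', y, c, c', hσ, hc, hc', hw, hv⟩ := (mk_eq_mk_iff _ _ _ _).mp h
  exact ⟨l, F.map φ.op σ, φ', y, c', by rw [app_map, hσ], hc', hv, mk_map_smul φ σ y w c hc hw⟩

theorem isBounded_representable (n : ICone) : Fan.IsBounded (uliftYoneda.{u}.obj n) := by
  refine ⟨{⟨n, ULift.up (𝟙 n)⟩}, fun x => ⟨_, Finset.mem_singleton_self _, ?_⟩⟩
  obtain ⟨k, φ, y, rfl⟩ := exists_mk x
  refine ⟨omap φ.down y, ?_⟩
  rw [← mk_map]
  obtain ⟨φ⟩ := φ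
  congr 1

/-- Maps from a bounded fan to a quasi-separated fan are bounded. -/
theorem isBoundedMap_of_isBounded (hG : G.IsQuasiSeparated) (hF : Fan.IsBounded F) (f : F ⟶ G) :
    Fan.IsBoundedMap f := by
  classical
  intro n ξ
  obtain ⟨s, hs⟩ := hF
  have hq : ∀ e : (Σ m : ICone, F.obj (op m)),
      ∃ t : Finset (Σ l : ICone, (pullback f (Fan.coneMap ξ)).obj (op l)),
        ∀ (k : ICone) (p : (pullback f (Fan.coneMap ξ)).obj (op k)) (y : Fan.Orth k) (φ : k ⟶ e.1),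
          (pullback.fst f (Fan.coneMap ξ)).app _ p = F.map φ.op e.2 → ∃ q ∈ t, Fan.P.mk p y ∈ Fan.P.cell q.2 := by
    intro e
    obtain ⟨t, ht⟩ := hG e.1 n (f.app _ e.2) ξ
    let μ : pullback (Fan.coneMap (f.app _ e.2)) (Fan.coneMap ξ) ⟶ pullback f (Fan.coneMap ξ) :=
      pullback.lift (pullback.fst _ _ ≫ Fan.coneMap e.2) (pullback.snd _ _)
        (by rw [Category.assoc, coneMap_comp, pullback.condition])
    refine ⟨t.image fun q => ⟨q.1, μ.app _ q.2⟩, fun k p y φ hp => ?_⟩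
    have h := pullback_cone_eq f (Fan.coneMap ξ) p
    rw [hp, app_map, ← coneMap_app (f.app _ e.2) φ] at h
    obtain ⟨r, h1, h2⟩ := exists_pullback_cone (Fan.coneMap (f.app _ e.2)) (Fan.coneMap ξ) (ULift.up φ) _ h
    have hr : μ.app _ r = p := by
      have e1 : (pullback.fst f (Fan.coneMap ξ)).app _ (μ.app _ r) = F.map φ.op e.2 := by
        show (μ ≫ pullback.fst _ _).app _ r = _
        rw [pullback.lift_fst]
        show (Fan.coneMap e.2).app _ ((pullback.fst (Fan.coneMap (f.app _ e.2)) (Fan.coneMap ξ)).app _ r) = _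
        rw [h1]; exact coneMap_app e.2 φ
      have e2 : (pullback.snd f (Fan.coneMap ξ)).app _ (μ.app _ r) = (pullback.snd f (Fan.coneMap ξ)).app _ p := by
        show (μ ≫ pullback.snd _ _).app _ r = _
        rw [pullback.lift_snd]; exact h2
      have hmaps : Fan.coneMap (μ.app _ r) = Fan.coneMap p := by
        apply pullback.hom_ext
        · rw [coneMap_comp, coneMap_comp, e1, hp]
        · rw [coneMap_comp, coneMap_comp, e2]
      exact uliftYonedaEquiv.symm.injective hmaps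
    obtain ⟨q, hq, z, hz⟩ := ht (Fan.P.mk r y)
    refine ⟨⟨q.1, μ.app _ q.2⟩, Finset.mem_image_of_mem _ hq, z, ?_⟩
    rw [← map_mk μ q.2 z, hz, map_mk, hr]
  choose t ht using hq
  refine ⟨s.biUnion t, fun x => ?_⟩
  obtain ⟨k, p, y, rfl⟩ := exists_mk x
  obtain ⟨e, he, w, hw⟩ := hs (Fan.P.mk ((pullback.fst f (Fan.coneMap ξ)).app _ p) y)
  obtain ⟨l, φ, φ', z, c, c', hσ, hc, hc', -, hy⟩ := (mk_eq_mk_iff _ _ _ _).mp hw
  obtain ⟨q, hq, hq'⟩ := ht e l ((pullback f (Fan.coneMap ξ)).map φ'.op p) z φ (by rw [app_map, hσ])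
  refine ⟨q, Finset.mem_biUnion.mpr ⟨e, he, hq⟩, ?_⟩
  rwa [mk_map_smul φ' p z y c' hc' hy] at hq'

theorem isBoundedMap_coneMap (hG : G.IsQuasiSeparated) (σ : G.obj (op n)) : Fan.IsBoundedMap (Fan.coneMap σ) :=
  fun m τ => hG n m σ τ

end Groth.Agent.InstabFanLib
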