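import Mathlib.LinearAlgebra.Finsupp.LinearCombination
import Mathlib.LinearAlgebra.Basis.VectorSpace
import Mathlib.LinearAlgebra.FiniteDimensional.Defs
import Mathlib.Topology.Algebra.Module.FiniteDimension
import Mathlib.Data.Real.Basic
import Mathlib.Topology.Instances.Real.Lemmas
import Mathlib.Topology.Instances.Rat
import Mathlib.Analysis.Normed.Module.FiniteDimension

/-!
Rational cones: real points of rationally defined linear sections of the orthant are positive
combinations of finitely many integral points.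
-/

set_option autoImplicit false
set_option linter.style.haveILetI false

namespace Groth.Agent.InstabFanLib

open Finset

/-- Cast of an integral vector. -/
def icast {ι : Type*} (g : ι → ℤ) : ι → ℝ := fun i => (g i : ℝ)

/-- The real extension of an integral linear map. -/
noncomputable def rext {ι κ : Type*} [Fintype ι] [DecidableEq ι] (M : (ι → ℤ) →ₗ[ℤ] (κ → ℤ)) :
    (ι → ℝ) →ₗ[ℝ] (κ → ℝ) where
  toFun v j := ∑ i, (M (Pi.single i 1) j : ℝ) * v i
  map_add' v w := by
    funext j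
    simp only [Pi.add_apply, mul_add, sum_add_distrib]
  map_smul' c v := by
    funext j
    simp only [Pi.smul_apply, smul_eq_mul, RingHom.id_apply, mul_sum]
    exact sum_congr rfl fun i _ => by ring

theorem rext_apply {ι κ : Type*} [Fintype ι] [DecidableEq ι] (M : (ι → ℤ) →ₗ[ℤ] (κ → ℤ)) (v : ι → ℝ) (j : κ) :
    rext M v j = ∑ i, (M (Pi.single i 1) j : ℝ) * v i := rfl

theorem rext_icast {ι κ : Type*} [Fintype ι] [DecidableEq ι] (M : (ι → ℤ) →ₗ[ℤ] (κ → ℤ)) (g : ι → ℤ) :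
    rext M (icast g) = icast (M g) := by
  funext j
  have h : g = ∑ i, g i • (Pi.single i (1 : ℤ) : ι → ℤ) := by
    funext i
    simp [Finset.sum_apply, Pi.single_apply]
  rw [rext_apply, icast]
  conv_rhs => rw [h, map_sum, Finset.sum_apply]
  push_cast
  exact sum_congr rfl fun i _ => by
    rw [map_smul, Pi.smul_apply, smul_eq_mul, icast]
    push_cast
    ring

theorem rext_comp {ι κ μ : Type*} [Fintype ι] [DecidableEq ι] [Fintype κ] [DecidableEq κ]
    (M : (ι → ℤ) →ₗ[ℤ] (κ → ℤ)) (L : (κ → ℤ) →ₗ[ℤ] (μ → ℤ)) (v : ι → ℝ) :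
    rext (L.comp M) v = rext L (rext M v) := by
  have hv : v = ∑ i, v i • icast (Pi.single i (1 : ℤ) : ι → ℤ) := by
    funext i
    simp [icast, Finset.sum_apply, Pi.single_apply]
  rw [hv, map_sum, map_sum, map_sum]
  refine sum_congr rfl fun i _ => ?_
  rw [map_smul, map_smul, map_smul, rext_icast, rext_icast, rext_icast]
  rfl

theorem rext_id {ι : Type*} [Fintype ι] [DecidableEq ι] (v : ι → ℝ) : rext (LinearMap.id : (ι → ℤ) →ₗ[ℤ] _) v = v := by
  funext j
  simp [rext_apply, Pi.single_apply]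

theorem icast_injective {ι : Type*} : Function.Injective (icast (ι := ι)) :=
  fun _ _ h => funext fun i => Int.cast_injective (congrFun h i)

theorem icast_zero {ι : Type*} : icast (0 : ι → ℤ) = 0 := funext fun _ => Int.cast_zero

/-- A real solution of an integral system is a combination of integral solutions with the same zeros, with
coefficients which are linearly independent over the rationals. -/
theorem exists_decomp {ι κ : Type*} [Fintype ι] [DecidableEq ι] (M : (ι → ℤ) →ₗ[ℤ] (κ → ℤ)) (x : ι → ℝ)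
    (hM : rext M x = 0) :
    ∃ (d : ℕ) (β : Fin d → ℝ) (q : Fin d → ι → ℤ),
      x = ∑ j, β j • icast (q j) ∧ (∀ j, M (q j) = 0) ∧ ∀ i, x i = 0 → ∀ j, q j i = 0 := by
  classical
  let V : Submodule ℚ ℝ := Submodule.span ℚ (Set.range x)
  haveI : Module.Finite ℚ V := Module.Finite.span_of_finite ℚ (Set.finite_range x)
  let b := Module.finBasis ℚ V
  let a : Fin (Module.finrank ℚ V) → ι → ℚ := fun j i => b.repr ⟨x i, Submodule.subset_span ⟨i, rfl⟩⟩ j
  -- clear denominators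
  let D : ℕ := ∏ p : Fin (Module.finrank ℚ V) × ι, (a p.1 p.2).den
  have hD : (D : ℝ) ≠ 0 := Nat.cast_ne_zero.mpr (prod_ne_zero_iff.mpr fun p _ => (a p.1 p.2).den_nz)
  have hint : ∀ j i, ∃ z : ℤ, (z : ℝ) = (D : ℝ) * (a j i : ℝ) := fun j i => by
    obtain ⟨e, he⟩ := dvd_prod_of_mem (fun p : Fin (Module.finrank ℚ V) × ι => (a p.1 p.2).den) (mem_univ (j, i))
    refine ⟨e * (a j i).num, ?_⟩
    have hD' : (D : ℝ) = (a j i).den * (e : ℕ) := by exact_mod_cast he
    have hden : ((a j i).den : ℝ) ≠ 0 := Nat.cast_ne_zero.mpr (a j i).den_nz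
    rw [hD', Rat.cast_def]
    push_cast
    field_simp
  choose q hq using hint
  have hx : ∀ i, x i = ∑ j, (a j i : ℝ) * (b j : ℝ) := fun i => by
    have h := congrArg Subtype.val (b.sum_repr ⟨x i, Submodule.subset_span ⟨i, rfl⟩⟩)
    simp only [Submodule.coe_sum, Submodule.coe_smul] at h
    refine h.symm.trans (sum_congr rfl fun j _ => ?_)
    rw [Rat.smul_def]
  have hx' : x = ∑ j, ((D : ℝ)⁻¹ * (b j : ℝ)) • icast (q j) := by
    funext i
    rw [Finset.sum_apply, hx]
    refine sum_congr rfl fun j _ => ?_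
    rw [Pi.smul_apply, smul_eq_mul, icast, hq]
    field_simp
  have hli : LinearIndependent ℚ (fun j => (b j : ℝ)) :=
    b.linearIndependent.map' V.subtype (Submodule.ker_subtype V)
  have key : ∀ z : Fin (Module.finrank ℚ V) → ℤ, ∑ j, ((D : ℝ)⁻¹ * (b j : ℝ)) * (z j : ℝ) = 0 → ∀ j, z j = 0 := by
    intro z hz j
    have h1 : ∑ j, (z j : ℚ) • (b j : ℝ) = 0 := by
      have h2 : (D : ℝ)⁻¹ * ∑ j, (z j : ℚ) • (b j : ℝ) = 0 := by
        rw [mul_sum, ← hz]
        exact sum_congr rfl fun j _ => by rw [Rat.smul_def, Rat.cast_intCast]; ring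
      exact (mul_eq_zero.mp h2).resolve_left (inv_ne_zero hD)
    exact_mod_cast Fintype.linearIndependent_iff.mp hli (fun j => (z j : ℚ)) h1 j
  refine ⟨_, fun j => (D : ℝ)⁻¹ * (b j : ℝ), q, hx', fun j => funext fun r => ?_, fun i hi j => ?_⟩
  · refine key (fun j => M (q j) r) ?_ j
    rw [hx', map_sum] at hM
    have := congrFun hM r
    simp only [Finset.sum_apply, map_smul, rext_icast, Pi.smul_apply, smul_eq_mul, Pi.zero_apply] at this
    exact this
  · refine key (fun j => q j i) ?_ j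
    have := congrFun hx' i
    rw [hi, Finset.sum_apply] at this
    exact this.symm

/-- A linear map of lattices which is injective is injective on real vectors. -/
theorem rext_injective {ι κ : Type*} [Fintype ι] [DecidableEq ι] {M : (ι → ℤ) →ₗ[ℤ] (κ → ℤ)}
    (hM : Function.Injective M) : Function.Injective (rext M) := by
  rw [injective_iff_map_eq_zero]
  intro x hx
  obtain ⟨d, β, q, rfl, hq, -⟩ := exists_decomp M x hx
  refine sum_eq_zero fun j _ => ?_
  rw [hM ((hq j).trans M.map_zero.symm), icast_zero, smul_zero]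

/-- An integral solution with the support of a real one. -/
theorem exists_int_solution {ι κ : Type*} [Fintype ι] [DecidableEq ι] (M : (ι → ℤ) →ₗ[ℤ] (κ → ℤ)) (x : ι → ℝ)
    (hM : rext M x = 0) (hx : ∀ i, 0 ≤ x i) :
    ∃ g : ι → ℤ, M g = 0 ∧ ∀ i, (0 < x i → 0 < g i) ∧ (x i = 0 → g i = 0) := by
  classical
  obtain ⟨d, β, q, hβ, hq, hz⟩ := exists_decomp M x hM
  -- rational perturbation
  let S : Set (Fin d → ℝ) := {c | ∀ i, 0 < x i → 0 < ∑ j, c j * (q j i : ℝ)}
  have hSo : IsOpen S := by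
    simp only [S, Set.ofPred_forall]
    exact isOpen_iInter_of_finite fun i => isOpen_iInter_of_finite fun _ =>
      isOpen_lt continuous_const (continuous_finsetSum _ fun j _ => (continuous_apply j).mul continuous_const)
  have hβS : β ∈ S := fun i hi => by
    have := congrFun hβ i
    rw [Finset.sum_apply] at this
    rw [this] at hi
    exact hi
  have hd : DenseRange (Pi.map fun _ : Fin d => ((↑) : ℚ → ℝ)) := DenseRange.piMap fun _ => Rat.denseRange_cast
  obtain ⟨c, hc⟩ := hd.exists_mem_open hSo ⟨β, hβS⟩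
  let D : ℕ := ∏ j, (c j).den
  have hDpos : (0 : ℚ) < D := Nat.cast_pos.mpr (prod_pos fun j _ => (c j).den_pos)
  have hint : ∀ j, ∃ z : ℤ, (z : ℚ) = D * c j := fun j => by
    obtain ⟨e, he⟩ := dvd_prod_of_mem (fun j => (c j).den) (mem_univ j)
    refine ⟨e * (c j).num, ?_⟩
    rw [show (D : ℚ) = (c j).den * (e : ℕ) from by exact_mod_cast he, mul_right_comm, Rat.den_mul_eq_num]
    push_cast
    ring
  choose z hz' using hint
  refine ⟨∑ j, z j • q j, ?_, fun i => ⟨fun hi => ?_, fun hi => ?_⟩⟩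
  · rw [map_sum]
    exact sum_eq_zero fun j _ => by rw [map_smul, hq, smul_zero]
  · have h1 : (0 : ℝ) < ∑ j, (c j : ℝ) * (q j i : ℝ) := hc i hi
    have h2 : (((∑ j, z j • q j) i : ℤ) : ℝ) = (D : ℝ) * ∑ j, (c j : ℝ) * (q j i : ℝ) := by
      rw [Finset.sum_apply, mul_sum]
      push_cast
      refine sum_congr rfl fun j _ => ?_
      have : (z j : ℝ) = (D : ℝ) * (c j : ℝ) := by exact_mod_cast congrArg (fun r : ℚ => (r : ℝ)) (hz' j)
      rw [Pi.smul_apply, smul_eq_mul, Int.cast_mul, this]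
      ring
    have h3 : (0 : ℝ) < D := by exact_mod_cast hDpos
    have h4 : (0 : ℝ) < (((∑ j, z j • q j) i : ℤ) : ℝ) := h2 ▸ mul_pos h3 h1
    exact_mod_cast h4
  · rw [Finset.sum_apply]
    exact sum_eq_zero fun j _ => by rw [Pi.smul_apply, hz i hi j, smul_zero]

/-- The positive orthant section of a rational subspace is generated by finitely many integral points:
each point is a positive combination of linearly independent ones. -/
theorem exists_generators {ι κ : Type*} [Fintype ι] [DecidableEq ι] (M : (ι → ℤ) →ₗ[ℤ] (κ → ℤ)) :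
    ∃ Γ : Finset (ι → ℤ), (∀ g ∈ Γ, (∀ i, 0 ≤ g i) ∧ M g = 0) ∧
      ∀ x : ι → ℝ, (∀ i, 0 ≤ x i) → rext M x = 0 → ∃ (r : ℕ) (g : Fin r → ι → ℤ) (c : Fin r → ℝ),
        LinearIndependent ℤ g ∧ (∀ j, g j ∈ Γ) ∧ (∀ j, 0 < c j) ∧ x = ∑ j, c j • icast (g j) := by
  classical
  let P : Finset ι → Prop := fun S => ∃ g : ι → ℤ, M g = 0 ∧ (∀ i, 0 ≤ g i) ∧ g ≠ 0 ∧ ∀ i, i ∉ S → g i = 0
  let G : Finset ι → (ι → ℤ) := fun S => if h : P S then h.choose else 0
  refine ⟨(univ.filter P).image G, fun g hg => ?_, ?_⟩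
  · obtain ⟨S, hS, rfl⟩ := mem_image.mp hg
    have h : P S := (mem_filter.mp hS).2
    simp only [G, dif_pos h]
    exact ⟨h.choose_spec.2.1, h.choose_spec.1⟩
  suffices H : ∀ (S : Finset ι) (x : ι → ℝ), (∀ i, 0 ≤ x i) → rext M x = 0 → (∀ i, i ∈ S ↔ x i ≠ 0) →
      ∃ (r : ℕ) (g : Fin r → ι → ℤ) (c : Fin r → ℝ), LinearIndependent ℤ g ∧
        (∀ j, g j ∈ (univ.filter P).image G ∧ ∀ i, i ∉ S → g j i = 0) ∧ (∀ j, 0 < c j) ∧
        x = ∑ j, c j • icast (g j) by
    intro x hx hMx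
    obtain ⟨r, g, c, h1, h2, h3, h4⟩ := H (univ.filter fun i => x i ≠ 0) x hx hMx fun i => by simp
    exact ⟨r, g, c, h1, fun j => (h2 j).1, h3, h4⟩
  intro S
  induction S using Finset.strongInduction with
  | _ S ih =>
  intro x hx hMx hS
  by_cases h0 : x = 0
  · exact ⟨0, Fin.elim0, Fin.elim0, linearIndependent_empty_type, fun j => j.elim0, fun j => j.elim0, by simp [h0]⟩
  obtain ⟨g₀, hg₀, hg₀'⟩ := exists_int_solution M x hMx hx
  have hP : P S := by
    refine ⟨g₀, hg₀, fun i => ?_, ?_, fun i hi => (hg₀' i).2 (not_not.mp fun h => hi ((hS i).mpr h))⟩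
    · rcases (hx i).eq_or_lt' with h | h
      · exact ((hg₀' i).2 h).ge
      · exact ((hg₀' i).1 h).le
    · obtain ⟨i, hi⟩ := Function.ne_iff.mp h0
      exact Function.ne_iff.mpr ⟨i, ((hg₀' i).1 ((hx i).lt_of_ne' hi)).ne'⟩
  have hgmem : G S ∈ (univ.filter P).image G := mem_image_of_mem _ (mem_filter.mpr ⟨mem_univ _, hP⟩)
  have hGS : M (G S) = 0 ∧ (∀ i, 0 ≤ G S i) ∧ G S ≠ 0 ∧ ∀ i, i ∉ S → G S i = 0 := by
    simp only [G, dif_pos hP]
    exact hP.choose_spec
  obtain ⟨hg1, hg2, hg3, hg4⟩ := hGS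
  set g := G S
  obtain ⟨i₀, hi₀, hmin⟩ := exists_min_image (univ.filter fun i => g i ≠ 0) (fun i => x i / g i)
    (by obtain ⟨i, hi⟩ := Function.ne_iff.mp hg3; exact ⟨i, by simpa using hi⟩)
  have hgi₀ : (0 : ℝ) < g i₀ := by
    exact_mod_cast (hg2 i₀).lt_of_ne' (by simpa using hi₀)
  have hi₀S : i₀ ∈ S := not_not.mp fun h => by simp [hg4 i₀ h] at hgi₀
  set t := x i₀ / g i₀
  have ht : 0 < t := div_pos ((hx i₀).lt_of_ne' ((hS i₀).mp hi₀S)) hgi₀
  let x' : ι → ℝ := x - t • icast g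
  have hx' : ∀ i, 0 ≤ x' i := fun i => by
    simp only [x', Pi.sub_apply, Pi.smul_apply, smul_eq_mul, icast, sub_nonneg]
    rcases eq_or_ne (g i) 0 with h | h
    · simp [h, hx i]
    · have hgi : (0 : ℝ) < g i := by exact_mod_cast (hg2 i).lt_of_ne' h
      exact (le_div_iff₀ hgi).mp (hmin i (by simpa using h))
  let S' := univ.filter fun i => x' i ≠ 0
  have hS' : S' ⊆ S.erase i₀ := fun i hi => by
    have hi' : x' i ≠ 0 := (mem_filter.mp hi).2
    refine mem_erase.mpr ⟨?_, not_not.mp fun h => hi' ?_⟩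
    · rintro rfl
      exact hi' (by simp [x', t, icast, div_mul_cancel₀ _ hgi₀.ne'])
    · simp [x', icast, hg4 i h, show x i = 0 from not_not.mp fun h' => h ((hS i).mpr h')]
  obtain ⟨r, gs, c, h1, h2, h3, h4⟩ := ih S' (ssubset_of_subset_of_ne (hS'.trans (erase_subset _ _))
      (fun h => notMem_erase i₀ S (hS' (h ▸ hi₀S)))) x' hx'
    (by rw [map_sub, map_smul, rext_icast, hg1, icast_zero, smul_zero, hMx, sub_zero]) (fun i => by simp [S'])
  have hi₀' : i₀ ∉ S' := fun h => notMem_erase i₀ S (hS' h)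
  refine ⟨r + 1, Fin.cons g gs, Fin.cons t c, ?_, ?_, ?_, ?_⟩
  · rw [Fintype.linearIndependent_iff] at h1 ⊢
    intro w hw
    rw [Fin.sum_univ_succ, Fin.cons_zero] at hw
    simp only [Fin.cons_succ] at hw
    have h0 : w 0 = 0 := by
      have hv := congrFun hw i₀
      simp only [Pi.add_apply, Pi.smul_apply, Finset.sum_apply, smul_eq_mul, (h2 _).2 i₀ hi₀', mul_zero,
        sum_const_zero, add_zero, Pi.zero_apply] at hv
      exact (mul_eq_zero.mp hv).resolve_right fun h => by simp [h] at hgi₀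
    rw [h0, zero_smul, zero_add] at hw
    exact Fin.cases h0 (h1 _ hw)
  · refine Fin.cases ⟨hgmem, hg4⟩ fun j => ⟨(h2 j).1, fun i hi => (h2 j).2 i fun h => hi (mem_of_mem_erase (hS' h))⟩
  · exact Fin.cases ht h3
  · simp only [Fin.sum_univ_succ, Fin.cons_zero, Fin.cons_succ, ← h4, x', add_sub_cancel]

theorem icast_nonneg {ι : Type*} {g : ι → ℤ} (h : ∀ i, 0 ≤ g i) (i : ι) : 0 ≤ icast g i :=
  Int.cast_nonneg (h i)

/-- The closedness of images of closed subsets of the punctured orthant. -/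
theorem isClosedEmbedding_rext {ι κ : Type*} [Fintype ι] [DecidableEq ι] [Fintype κ] {M : (ι → ℤ) →ₗ[ℤ] (κ → ℤ)}
    (hM : Function.Injective M) : Topology.IsClosedEmbedding (rext M) :=
  LinearMap.isClosedEmbedding_of_injective (LinearMap.ker_eq_bot.mpr (rext_injective hM))

/-- Caratheodory: a cone combination is one with linearly independent vectors. -/
theorem exists_independent {ι : Type*} [Fintype ι] [DecidableEq ι] (s : Finset (ι → ℤ)) (c : (ι → ℤ) → ℝ)
    (hc : ∀ g, 0 ≤ c g) :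
    ∃ (t : Finset (ι → ℤ)) (d : (ι → ℤ) → ℝ), t ⊆ s ∧ (∀ g, 0 ≤ d g) ∧
      LinearIndepOn ℝ icast (t : Set (ι → ℤ)) ∧ ∑ g ∈ s, c g • icast g = ∑ g ∈ t, d g • icast g := by
  classical
  induction s using Finset.strongInduction generalizing c with
  | _ s ih =>
  by_cases h : LinearIndepOn ℝ icast (s : Set (ι → ℤ))
  · exact ⟨s, c, subset_refl s, hc, h, rfl⟩
  rw [linearIndepOn_finset_iff] at h
  push Not at h
  obtain ⟨f, hf, g₁, hg₁, hfg₁⟩ := h
  obtain ⟨f, hf, g₁, hg₁, hfg₁⟩ : ∃ f : (ι → ℤ) → ℝ, ∑ g ∈ s, f g • icast g = 0 ∧ ∃ g₁ ∈ s, 0 < f g₁ := by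
    rcases hfg₁.lt_or_gt with h | h
    · exact ⟨-f, by simp [neg_smul, sum_neg_distrib, hf], g₁, hg₁, by simpa using h⟩
    · exact ⟨f, hf, g₁, hg₁, h⟩
  obtain ⟨g₀, hg₀, hmin⟩ := exists_min_image (s.filter fun g => 0 < f g) (fun g => c g / f g)
    ⟨g₁, mem_filter.mpr ⟨hg₁, hfg₁⟩⟩
  obtain ⟨hg₀s, hfg₀⟩ := mem_filter.mp hg₀
  set τ := c g₀ / f g₀
  let c' : (ι → ℤ) → ℝ := fun g => if g ∈ s then c g - τ * f g else 0
  have hc' : ∀ g, 0 ≤ c' g := fun g => by
    simp only [c']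
    split
    · rename_i hgs
      rw [sub_nonneg]
      rcases le_or_gt (f g) 0 with h | h
      · exact (mul_nonpos_of_nonneg_of_nonpos (div_nonneg (hc _) hfg₀.le) h).trans (hc g)
      · exact (le_div_iff₀ h).mp (hmin g (mem_filter.mpr ⟨hgs, h⟩))
    · exact le_rfl
  obtain ⟨t, d, ht, hd, hli, hsum⟩ := ih (s.erase g₀) (erase_ssubset hg₀s) c' hc'
  refine ⟨t, d, ht.trans (erase_subset _ _), hd, hli, hsum ▸ ?_⟩
  rw [sum_erase]
  · calc ∑ g ∈ s, c g • icast g = ∑ g ∈ s, c g • icast g - τ • ∑ g ∈ s, f g • icast g := by rw [hf]; simp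
      _ = ∑ g ∈ s, c' g • icast g := by
        rw [smul_sum, ← sum_sub_distrib]
        exact sum_congr rfl fun g hg => by simp only [c', if_pos hg, sub_smul, smul_smul]
  · simp [c', hg₀s, τ, div_mul_cancel₀ _ hfg₀.ne']

end Groth.Agent.InstabFanLib
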