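import Groth.Agent.InstabFanLib.Pullback
import Mathlib.Algebra.Order.Floor.Semiring
import Mathlib.Topology.Instances.NNReal.Lemmas

/-!
Topology of the realization of formal fans.
-/

set_option autoImplicit false
set_option linter.style.haveILetI false
set_option backward.isDefEq.respectTransparency.types false

open CategoryTheory CategoryTheory.Limits Opposite Instab Filter Topology

universe u

namespace Groth.Agent.InstabFanLib

variable {F G : Fan.{u}} {k n : ICone}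

theorem continuous_mk (ξ : F.obj (op n)) : Continuous (Fan.P.mk ξ) :=
  continuous_quot_mk.comp continuous_sigmaMk

theorem isClosed_iff (C : Set (Fan.P F)) :
    IsClosed C ↔ ∀ (n : ICone) (ξ : F.obj (op n)), IsClosed (Fan.P.mk ξ ⁻¹' C) := by
  refine ⟨fun h n ξ => h.preimage (continuous_mk ξ), fun h => ?_⟩
  refine isQuotientMap_quot_mk.isClosed_preimage.mp ?_
  exact isClosed_sigma_iff.mpr fun i => h i.1 i.2

theorem continuous_map (f : F ⟶ G) : Continuous (Fan.P.map f) := by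
  refine isQuotientMap_quot_mk.continuous_iff.mpr ?_
  exact continuous_sigma_iff.mpr fun i => continuous_mk (f.app _ i.2)

theorem isClosed_nonneg (n : ICone) : IsClosed {v : Fin n.dim → ℝ | ∀ i, 0 ≤ v i} := by
  rw [Set.ofPred_forall]
  exact isClosed_iInter fun i => isClosed_le continuous_const (continuous_apply i)

theorem isClosedMap_omap (φ : k ⟶ n) : IsClosedMap (omap φ) := by
  intro C hC
  obtain ⟨K, hK, rfl⟩ := isClosed_induced_iff.mp (show IsClosed[instTopologicalSpaceSubtype] C from hC)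
  have h : omap φ '' (Subtype.val ⁻¹' K) = Subtype.val ⁻¹' (rl φ '' (K ∩ {v | ∀ i, 0 ≤ v i})) := by
    ext v
    constructor
    · rintro ⟨y, hy, rfl⟩
      exact ⟨y.1, ⟨hy, y.2.1⟩, rfl⟩
    · rintro ⟨y, ⟨hy, hy0⟩, hv⟩
      have hyne : y ≠ 0 := fun h => v.2.2 (by rw [← hv, h, map_zero])
      exact ⟨⟨y, hy0, hyne⟩, hy, Subtype.ext hv⟩
  refine Eq.mpr (congrArg IsClosed h) ?_
  exact ((isClosedEmbedding_rext φ.injective).isClosedMap _ (hK.inter (isClosed_nonneg k))).preimage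
    continuous_subtype_val

theorem continuous_val_apply (i : Fin n.dim) : Continuous fun w : Fan.Orth n => w.1 i :=
  (continuous_apply i).comp continuous_subtype_val

/-- Positive rescaling. -/
noncomputable def oscale (c : ℝ) (hc : 0 < c) (v : Fan.Orth n) : Fan.Orth n :=
  ⟨c • v.1, fun i => mul_nonneg hc.le (v.2.1 i), smul_ne_zero hc.ne' v.2.2⟩

theorem mk_oscale (ξ : F.obj (op n)) (c : ℝ) (hc : 0 < c) (v : Fan.Orth n) :
    Fan.P.mk ξ (oscale c hc v) = Fan.P.mk ξ v := mk_smul ξ v _ c hc rfl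

theorem preimage_range_eq {f : F ⟶ G} {ξ : G.obj (op n)} (s : Finset (Σ l : ICone, F.obj (op l) × (l ⟶ n)))
    (hs : ∀ e ∈ s, f.app _ e.2.1 = G.map e.2.2.op ξ)
    (hcov : ∀ (k : ICone) (a : F.obj (op k)) (ψ : k ⟶ n) (y : Fan.Orth k), f.app _ a = G.map ψ.op ξ →
        ∃ e ∈ s, ∃ (z : Fan.Orth e.1) (c : ℝ), 0 < c ∧ rl ψ y.1 = c • rl e.2.2 z.1 ∧
          Fan.P.mk a y = Fan.P.mk e.2.1 z) (C : Set (Fan.P F)) :
    Fan.P.mk ξ ⁻¹' (Fan.P.map f '' C) = ⋃ e ∈ s, omap e.2.2 '' (Fan.P.mk e.2.1 ⁻¹' C) := by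
  ext v
  simp only [Set.mem_preimage, Set.mem_image, Set.mem_iUnion, exists_prop]
  constructor
  · rintro ⟨x, hx, hv⟩
    obtain ⟨k, a, ψ, y, c, ha, hc, hvy, rfl⟩ := exists_of_map_eq f x v hv
    obtain ⟨e, he, z, d, hd, hy, hz⟩ := hcov k a ψ y ha
    refine ⟨e, he, oscale (c * d) (mul_pos hc hd) z, ?_, ?_⟩
    · rw [mk_oscale, ← hz]; exact hx
    · refine Subtype.ext ?_
      rw [omap_val, hvy, hy, smul_smul]
      exact map_smul _ _ _
  · rintro ⟨e, he, z, hz, rfl⟩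
    refine ⟨_, hz, ?_⟩
    rw [map_mk, hs e he, mk_map]

theorem isClosedMap_map {f : F ⟶ G} (hf : Fan.IsBoundedMap f) : IsClosedMap (Fan.P.map f) := by
  intro C hC
  rw [isClosed_iff]
  intro n ξ
  obtain ⟨s, hs, hcov⟩ := exists_cover (hf n ξ)
  rw [preimage_range_eq s hs hcov]
  exact isClosed_biUnion_finset fun e _ => isClosedMap_omap _ _ ((isClosed_iff C).mp hC _ _)

theorem finite_fibre {f : F ⟶ G} (hf : Fan.IsBoundedMap f) (y : Fan.P G) : (Fan.P.map f ⁻¹' {y}).Finite := by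
  obtain ⟨n, ξ, v, rfl⟩ := exists_mk y
  obtain ⟨s, hs, hcov⟩ := exists_cover (hf n ξ)
  refine Set.Finite.subset (s.finite_toSet.biUnion fun e _ => Set.Subsingleton.finite (?_ :
    ({x | ∃ z : Fan.Orth e.1, Fan.P.mk e.2.1 z = x ∧ ∃ c : ℝ, 0 < c ∧ v.1 = c • rl e.2.2 z.1}).Subsingleton))
    fun x hx => ?_
  · rintro _ ⟨z, rfl, c, hc, hv⟩ _ ⟨z', rfl, c', hc', hv'⟩
    have h : z.1 = (c' / c) • z'.1 := by
      apply rl_injective e.2.2
      apply smul_right_injective _ hc.ne'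
      show c • rl e.2.2 z.1 = c • rl e.2.2 ((c' / c) • z'.1)
      rw [← hv, map_smul, smul_smul, mul_div_cancel₀ _ hc.ne', hv']
    exact mk_smul e.2.1 z' z _ (div_pos hc' hc) h
  · obtain ⟨k, a, ψ, y, c, ha, hc, hvy, rfl⟩ := exists_of_map_eq f x v hx
    obtain ⟨e, he, z, d, hd, hy, hz⟩ := hcov k a ψ y ha
    exact Set.mem_iUnion₂.mpr ⟨e, he, z, hz.symm, c * d, mul_pos hc hd, by rw [hvy, hy, smul_smul]⟩

theorem isClosed_cell (hF : F.IsQuasiSeparated) (σ : F.obj (op n)) (C : Set (Fan.Orth n)) (hC : IsClosed C)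
    (hcone : ∀ v ∈ C, ∀ (c : ℝ) (hc : 0 < c), oscale c hc v ∈ C) : IsClosed (Fan.P.mk σ '' C) := by
  let e : Fan.Orth n → Fan.P (uliftYoneda.{u}.obj n) := Fan.P.mk (F := uliftYoneda.{u}.obj n) (ULift.up (𝟙 n))
  have he : ∀ v, Fan.P.map (Fan.coneMap σ) (e v) = Fan.P.mk σ v := fun v => by
    show Fan.P.mk ((Fan.coneMap σ).app (op n) (ULift.up (𝟙 n))) v = _
    rw [coneMap_app, op_id, F.map_id]; rfl
  have hcl : IsClosed (e '' C) := by
    rw [isClosed_iff]
    intro k φ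
    obtain ⟨φ⟩ := φ
    suffices h : Fan.P.mk (F := uliftYoneda.{u}.obj n) (n := k) (ULift.up φ) ⁻¹' (e '' C) = omap φ ⁻¹' C by
      rw [h]; exact hC.preimage (continuous_omap φ)
    ext y
    constructor
    · rintro ⟨v, hv, h⟩
      obtain ⟨c, hc, hvy⟩ := ray_eq φ (𝟙 n) y v h.symm
      rw [rl_id] at hvy
      rw [Set.mem_preimage, show omap φ y = oscale c hc v from Subtype.ext hvy]
      exact hcone v hv c hc
    · intro hy
      refine ⟨_, hy, ?_⟩
      show Fan.P.mk (F := uliftYoneda.{u}.obj n) (n := n) (ULift.up (𝟙 n)) (omap φ y) = _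
      rw [← mk_map]
      congr 1
  have h := isClosedMap_map (isBoundedMap_coneMap hF σ) _ hcl
  rw [Set.image_image] at h
  simpa only [he] using h

theorem isClosed_singleton_of_qs (hF : F.IsQuasiSeparated) (x : Fan.P F) : IsClosed {x} := by
  obtain ⟨n, σ, v, rfl⟩ := exists_mk x
  have hcl : IsClosed {w : Fan.Orth n | ∀ i j, w.1 i * v.1 j = w.1 j * v.1 i} := by
    simp only [Set.ofPred_forall]
    exact isClosed_iInter fun i => isClosed_iInter fun j =>
      isClosed_eq ((continuous_val_apply i).mul continuous_const) ((continuous_val_apply j).mul continuous_const)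
  have h := isClosed_cell hF σ _ hcl fun w hw c hc i j => by
    simp only [oscale, Pi.smul_apply, smul_eq_mul, mul_assoc, hw i j]
  convert h using 1
  ext x
  constructor
  · rintro rfl; exact ⟨v, fun i j => mul_comm _ _, rfl⟩
  · rintro ⟨w, hw, rfl⟩
    obtain ⟨j, hj⟩ := Function.ne_iff.mp v.2.2
    obtain ⟨i, hi⟩ := Function.ne_iff.mp w.2.2
    have hvj : 0 < v.1 j := (v.2.1 j).lt_of_ne' hj
    have hwj : 0 < w.1 j := (w.2.1 j).lt_of_ne' fun h0 => by
      have := hw i j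
      rw [h0, zero_mul] at this
      exact hi ((mul_eq_zero.mp this).resolve_right hj)
    refine mk_smul σ v w (w.1 j / v.1 j) (div_pos hwj hvj) (funext fun l => ?_)
    rw [Pi.smul_apply, smul_eq_mul, div_mul_eq_mul_div, eq_div_iff hvj.ne']
    exact hw l j

/-- The ray of a lattice point is rational. -/
theorem isRational_mk (ξ : F.obj (op n)) (v : Fan.Orth n) (q : Fin n.dim → ℤ) (h : v.1 = icast q) :
    (Fan.P.mk ξ v).IsRational := by
  have hq : LinearIndependent ℤ (fun _ : Fin (1 : ℕ+) => q) := by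
    rw [Fintype.linearIndependent_iff]
    intro c hc j
    have hq0 : q ≠ 0 := fun h0 => v.2.2 (by rw [h, h0, icast_zero])
    obtain ⟨i, hi⟩ := Function.ne_iff.mp hq0
    have := congrFun hc i
    rw [Finset.sum_apply, Pi.zero_apply] at this
    have hj : (Finset.univ : Finset (Fin ((1 : ℕ+) : ℕ))) = {j} := Finset.eq_singleton_iff_unique_mem.mpr
      ⟨Finset.mem_univ _, fun x _ => Fin.ext (by have := x.2; have := j.2; simp only [PNat.one_coe] at *; omega)⟩
    rw [hj, Finset.sum_singleton, Pi.smul_apply, smul_eq_mul] at this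
    exact (mul_eq_zero.mp this).resolve_right hi
  have hnn : ∀ (j : Fin (1 : ℕ+)) i, 0 ≤ q i := fun _ i => by
    have := v.2.1 i
    rw [h] at this
    exact Int.cast_nonneg_iff.mp this
  refine ⟨F.map (coneOf (r := 1) _ hq hnn).op ξ, ?_⟩
  refine (mk_map_smul _ ξ (Fan.Orth.ones Fan.one) v 1 one_pos ?_).symm
  rw [one_smul, rl_coneOf, h]
  show icast q = ∑ _j : Fin 1, (1 : ℝ) • icast q
  simp

/-- A closed conic set containing the rays of all lattice points is everything. -/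
theorem mem_of_lattice {C : Set (Fan.Orth n)} (hC : IsClosed C)
    (hcone : ∀ v ∈ C, ∀ (c : ℝ) (hc : 0 < c), oscale c hc v ∈ C)
    (h : ∀ (v : Fan.Orth n) (q : Fin n.dim → ℤ), v.1 = icast q → v ∈ C) (v : Fan.Orth n) : v ∈ C := by
  have hne : ∀ N : ℕ, (fun i => ((⌈v.1 i * (N + 1)⌉₊ : ℕ) : ℝ)) ≠ 0 := fun N h0 => by
    obtain ⟨i, hi⟩ := Function.ne_iff.mp v.2.2
    have h1 : (0 : ℝ) < v.1 i * (N + 1) := mul_pos ((v.2.1 i).lt_of_ne' hi) (Nat.cast_add_one_pos N)
    have := (Nat.ceil_pos (α := ℝ)).mpr h1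
    have h2 := congrFun h0 i
    simp only [Pi.zero_apply, Nat.cast_eq_zero] at h2
    omega
  let w : ℕ → Fan.Orth n := fun N => oscale (((N : ℝ) + 1)⁻¹) (inv_pos.mpr (Nat.cast_add_one_pos N))
    ⟨fun i => ((⌈v.1 i * (N + 1)⌉₊ : ℕ) : ℝ), fun i => Nat.cast_nonneg _, hne N⟩
  have hw : ∀ N, w N ∈ C := fun N => hcone _ (h _ (fun i => (⌈v.1 i * (N + 1)⌉₊ : ℕ)) (funext fun i => by
    simp [icast])) _ _
  refine hC.mem_of_tendsto (b := atTop) (f := w) ?_ (Eventually.of_forall hw)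
  refine tendsto_subtype_rng.mpr (tendsto_pi_nhds.mpr fun i => ?_)
  show Tendsto (fun N : ℕ => ((N + 1 : ℝ)⁻¹) * ((⌈v.1 i * (N + 1)⌉₊ : ℕ) : ℝ)) atTop (𝓝 (v.1 i))
  have h2 := (tendsto_nat_ceil_mul_div_atTop (v.2.1 i)).comp
    (tendsto_atTop_add_const_right atTop (1 : ℝ) tendsto_natCast_atTop_atTop)
  refine h2.congr fun N => ?_
  simp [div_eq_inv_mul]

end Groth.Agent.InstabFanLib
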